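import Cfsg.Agent.Lib.OddOrder.S8.KappaDade
import Cfsg.Agent.Lib.CharTheory.OddBasics
import Cfsg.Agent.S1360
import Cfsg.Agent.S1372
import Cfsg.Agent.S1381

/-!
The partner of a maximal subgroup with `U = 1` is of type II, and the set `(M_σ − 1) ∪ Ẑ^M` is then
the set of elements of `M` not conjugate into `K`.
-/

set_option autoImplicit false
set_option linter.unusedSectionVars false

namespace CfsgLib.OddOrder.S8

open Subgroup Cfsg CfsgLib.MinSimpleOdd
open scoped Pointwise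

universe u
variable {G : Type u} [Group G] [Finite G] {M K U L : Subgroup G}

variable (hG : IsMinSimpleOddOrder G) (p : KappaPair M K L) (h : IsSigmaDecomposition M K U) (hU : U = ⊥)

include hG p h hU

theorem derived_eq_core : (⁅M, M⁆ : Subgroup G) = sigmaCore M := by
  rw [kappa_derived_eq hG p.left.hM h p.left.ne, hU, bot_sup_eq]

/-- Everything the sections on types III-V use about the partner. -/
theorem partner_typeII : (Nat.card (fixedCore M K)).Prime ∧ IsOfTypeII L ∧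
    ∃ V : Subgroup G, IsSigmaDecomposition L (fixedCore M K) V ∧ V ≠ ⊥ ∧
      IsTypePWith L (fixedCore M K) V K ∧ fittingHallOf L = sigmaCore L ∧ IsMulCommutative V ∧
      Group.IsNilpotent (sigmaCore L) ∧ IsTISubset (fittingOf L : Set G) ∧
      ∃ V₀ : Subgroup G, V₀ ≤ V ∧ Monoid.exponent V₀ = Monoid.exponent V ∧
        ∀ v ∈ V₀, ∀ x ∈ sigmaCore L, x ≠ 1 → v * x = x * v → v = 1 := by
  obtain ⟨V, hLV⟩ := exists_sigmaDecomposition hG p.right.hM p.cycC p.right.hall
  have hV : V ≠ ⊥ := pair_not_both_bot hG p.left.hM h p.left.ne hU p.right.hM p.symm_eq.symm hLV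
  obtain ⟨hp, hF, -⟩ := Cfsg.Agent.S1372.result hG L p.right.hM _ V hLV p.left.fixed_ne hV
  obtain ⟨V', hLP, hVV, -⟩ := exists_typeP hG p.right.hM hLV p.left.fixed_ne
  obtain ⟨rfl, hH⟩ := hVV hV
  rw [p.symm_eq] at hLP
  obtain ⟨-, hs⟩ := decomp_split hG p.right.hM hLV p.left.fixed_ne
  obtain ⟨V₀, hle, hexp, hfree⟩ := Cfsg.Agent.S1360.result hG L p.right.hM _ V' hLV
  exact ⟨hp, (Cfsg.Agent.S1381.result hG L p.right.hM _ V' hLV).mpr ⟨p.left.fixed_ne, hV⟩, V', hLV, hV,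
    hLP, hH, hs.comm, (hs.two hV).1, hF, V₀, hle, hexp,
    fun v hv x hx hx1 hvx => hfree v hv ⟨hLV.compl.1 (hle hv), x, hx, hx1, hvx⟩⟩

/-- For `U = 1` the Dade set consists of the elements not conjugate in `M` into `K`. -/
theorem kappaA0_eq : kappaA0 M K = {x | x ∈ M ∧ ∀ g ∈ M, g * x * g⁻¹ ∉ K} := by
  have hM := p.left.hM
  have hnor := le_normalizer_sigmaCore hG hM (le_refl M)
  have hinf : K ⊓ sigmaCore M = ⊥ := decomp_inf hG hM p.left.hall
  ext x
  constructor
  · rintro (⟨hx, hx1⟩ | hx)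
    · refine ⟨piCoreOf_le _ _ hx, fun g hg hk => hx1 ?_⟩
      have hmem : g * x * g⁻¹ ∈ K ⊓ sigmaCore M :=
        ⟨hk, (Subgroup.mem_normalizer_iff.mp (hnor hg) x).mp hx⟩
      rw [hinf, Subgroup.mem_bot] at hmem
      exact conj_eq_one_iff.mp hmem
    · refine ⟨hatConj_subset hG p hx, fun g _ hk => ?_⟩
      obtain ⟨m, hm, z, hz, rfl⟩ := hx
      rw [show g * (m * z * m⁻¹) * g⁻¹ = g * m * z * (g * m)⁻¹ by group] at hk
      have hgm : g * m ∈ K ⊔ fixedCore M K := p.hat_conj hG hz (Subgroup.mem_sup_left hk)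
      have := cyclic_isCommutative (p.cyclic hG)
      have hcomm : g * m * z = z * (g * m) :=
        congrArg Subtype.val (mul_comm' (⟨_, hgm⟩ : ↥(K ⊔ fixedCore M K)) ⟨z, hz.1⟩)
      rw [hcomm, mul_inv_cancel_right] at hk
      exact hz.2 (Or.inl hk)
  · rintro ⟨hxM, hx⟩
    obtain ⟨-, hMK, hcop⟩ := kappa_split_data hG hM h p.left.ne
    rw [derived_eq_core hG p h hU] at hMK hcop
    obtain ⟨s, hs, k, hk, rfl⟩ := hMK.2.2.2 x hxM
    by_cases hk1 : k = 1
    · subst hk1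
      refine Or.inl ⟨by rw [mul_one]; exact hs, fun e => hx 1 (one_mem _) ?_⟩
      rw [e]
      simp
    refine Or.inr ?_
    obtain ⟨y, hy, c, hc, hck, e⟩ := CfsgLib.CharTheory.conj_coset_coprime (sigmaCore M) (g := k)
      (hnor (h.hall.1 hk))
      (hcop.coprime_dvd_left (Subgroup.orderOf_dvd_natCard _ hk)) hs
    have hcK : c ∈ fixedCore M K := by
      rw [← p.left.prime k hk hk1]
      exact ⟨hc, Subgroup.mem_centralizer_singleton_iff.mpr hck⟩
    have hyM : y ∈ M := piCoreOf_le _ _ hy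
    refine ⟨y⁻¹, M.inv_mem hyM, c * k,
      ⟨Subgroup.mul_mem _ (Subgroup.mem_sup_right hcK) (Subgroup.mem_sup_left hk), ?_⟩, ?_⟩
    · rintro (hK' | hC)
      · exact hx y hyM (e ▸ hK')
      · refine hk1 (Subgroup.mem_bot.mp (hinf.le ⟨hk, ?_⟩))
        have := (sigmaCore M).mul_mem ((sigmaCore M).inv_mem hc) hC.1
        rwa [inv_mul_cancel_left] at this
    · rw [← e]; group

end CfsgLib.OddOrder.S8
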