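import Cfsg.Agent.Lib.OddOrder.S13.Setup
import Cfsg.Agent.Lib.MinSimpleOdd.TypeP
import Cfsg.Agent.S1366
import Cfsg.Agent.S1369
import Cfsg.Agent.S1381
import Cfsg.Agent.S1382
import Cfsg.Agent.S1383

/-!
Peterfalvi (8.8): if some maximal subgroup has `κ ≠ ∅`, there is a pair `S, T` as in (13.1), and every
other maximal subgroup with `κ ≠ ∅` is conjugate to one of them.
-/

set_option autoImplicit false
set_option linter.unusedSectionVars false

namespace CfsgLib.OddOrder.S8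

open Subgroup Cfsg CfsgLib.MinSimpleOdd CfsgLib.OddOrder.S13
open scoped Pointwise

universe u
variable {G : Type u} [Group G] [Finite G] {M K U L : Subgroup G}

/-- A maximal subgroup with `κ(M) ≠ ∅` is of one of the types II, III, IV, V. -/
theorem type_two_to_five (hG : IsMinSimpleOddOrder G) (hM : IsCoatom M) (h : IsSigmaDecomposition M K U)
    (hK : K ≠ ⊥) : IsOfTypeII M ∨ IsOfTypeIII M ∨ IsOfTypeIV M ∨ IsOfTypeV M := by
  by_cases hU : U = ⊥
  · by_cases hH : fittingHallOf M = sigmaCore M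
    · exact Or.inr (Or.inr (Or.inr ((Cfsg.Agent.S1383.result hG M hM K U h).mpr ⟨hK, hU, hH⟩)))
    · rcases (Cfsg.Agent.S1382.result hG M hM K U h).mpr ⟨hK, hU, hH⟩ with h3 | h4
      · exact Or.inr (Or.inl h3)
      · exact Or.inr (Or.inr (Or.inl h4))
  · exact Or.inl ((Cfsg.Agent.S1381.result hG M hM K U h).mpr ⟨hK, hU⟩)

/-- A pair with the data of (13.1), read from a `KappaPair`. -/
theorem ftPair_of_kappaPair (hG : IsMinSimpleOddOrder G) (p : KappaPair M K L) :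
    ∃ U V : Subgroup G, FTPair M L K (fixedCore M K) U V := by
  obtain ⟨U₀, hKU⟩ := exists_sigmaDecomposition hG p.left.hM p.cycK p.left.hall
  obtain ⟨V₀, hLV⟩ := exists_sigmaDecomposition hG p.right.hM p.cycC p.right.hall
  obtain ⟨U, hMP, -, -⟩ := exists_typeP hG p.left.hM hKU p.left.ne
  obtain ⟨V, hLP, -, -⟩ := exists_typeP hG p.right.hM hLV p.left.fixed_ne
  rw [p.symm_eq] at hLP
  refine ⟨U, V, hG, p.left.hM, p.right.hM, hMP, hLP, p.meet hG, ?_,
    type_two_to_five hG p.left.hM hKU p.left.ne, type_two_to_five hG p.right.hM hLV p.left.fixed_ne⟩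
  by_cases hU : U₀ = ⊥
  · refine Or.inr ((Cfsg.Agent.S1381.result hG L p.right.hM _ V₀ hLV).mpr ⟨p.left.fixed_ne, ?_⟩)
    exact pair_not_both_bot hG p.left.hM hKU p.left.ne hU p.right.hM p.symm_eq.symm hLV
  · exact Or.inl ((Cfsg.Agent.S1381.result hG M p.left.hM K U₀ hKU).mpr ⟨p.left.ne, hU⟩)

/-- Peterfalvi (8.8): the pair, and its uniqueness up to conjugacy. -/
theorem exists_ftPair (hG : IsMinSimpleOddOrder G) (hne : ∃ M : Subgroup G, IsCoatom M ∧ (kappa M).Nonempty) :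
    ∃ S T W₁ W₂ U V : Subgroup G, FTPair S T W₁ W₂ U V ∧ KappaPair S W₁ T ∧ W₂ = fixedCore S W₁ ∧
      ∀ H : Subgroup G, IsCoatom H → (kappa H).Nonempty →
        ∃ g : G, H = S.map (MulAut.conj g).toMonoidHom ∨ H = T.map (MulAut.conj g).toMonoidHom := by
  obtain ⟨M, hM, r, hr⟩ := hne
  obtain ⟨K, hK⟩ := CfsgLib.exists_isPiHallOf (kappa M) (M := M) (solvable_of_ne_top hG hM.1)
  have hK1 : K ≠ ⊥ := fun e => hK.2.2 r hr.1 hr (by rw [e, Subgroup.relIndex_bot_left]; exact hr.2.1)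
  obtain ⟨L, p⟩ := (kappaData_of_hall hG hM hK hK1).exists_pair hG
  obtain ⟨U, V, hP⟩ := ftPair_of_kappaPair hG p
  obtain ⟨U₀, hKU⟩ := exists_sigmaDecomposition hG hM p.cycK hK
  exact ⟨M, L, K, fixedCore M K, U, V, hP, p, rfl, fun H hH hκ =>
    (Cfsg.Agent.S1369.result hG M hM K U₀ hKU hK1 L p.right.hM p.symm_eq.symm p.right.hall).2 H hH hκ⟩

end CfsgLib.OddOrder.S8
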