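import Cfsg.Agent.Lib.OddOrder.S8.KappaDade
import Cfsg.Agent.Lib.OddOrder.Found.DadeTools
import Cfsg.Agent.Lib.MinSimpleOdd.KappaCover

/-!
Peterfalvi (8.16)-(8.18): the supports of the Dade maps of the maximal subgroups.  They are the sets
`M̃_σ` together with the classes of `Ẑ`, and those of non-conjugate subgroups meet only in `Ẑ^G`.
-/

set_option autoImplicit false
set_option linter.unusedSectionVars false

namespace CfsgLib.OddOrder.S8

open Subgroup Cfsg CfsgLib.MinSimpleOdd CfsgLib.OddOrder.Found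
open scoped Pointwise

universe u
variable {G : Type u} [Group G] [Finite G] {M N K L : Subgroup G}

/-- The `G`-classes of `Z − (K ∪ K*)`. -/
def hatClass (M K : Subgroup G) : Set G :=
  {a | ∃ y : G, ∃ z ∈ (↑(K ⊔ fixedCore M K) : Set G) \ ((K : Set G) ∪ (fixedCore M K : Set G)),
    a = y * z * y⁻¹}

theorem dadeSupp_sigma (M : Subgroup G) :
    dadeSupp ((sigmaCore M : Set G) \ {1}) (supportR M) = tildeOf M ((sigmaCore M : Set G) \ {1}) := by
  ext g
  constructor
  · rintro ⟨a, ha, r, hr, x, hx⟩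
    exact ⟨a, ha, r, hr, x⁻¹, by rw [← hx]; group⟩
  · rintro ⟨a, ha, r, hr, y, rfl⟩
    exact ⟨a, ha, r, hr, y⁻¹, by group⟩

/-- The partner has the same classes. -/
theorem hatClass_partner (p : KappaPair M K L) : hatClass L (fixedCore M K) = hatClass M K := by
  unfold hatClass
  rw [p.symm_eq, sup_comm, Set.union_comm]

variable (hG : IsMinSimpleOddOrder G)

include hG

theorem dadeSupp_kappa (p : KappaPair M K L) :
    dadeSupp (kappaA0 M K) (supportR M) =
      tildeOf M ((sigmaCore M : Set G) \ {1}) ∪ hatClass M K := by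
  ext g
  constructor
  · rintro ⟨a, ha | ha, r, hr, x, hx⟩
    · exact Or.inl ((dadeSupp_sigma M).le ⟨a, ha, r, hr, x, hx⟩)
    · rw [supportR_eq_bot hG p.left.hM (hatConj_centralizer_le hG p ha), Subgroup.mem_bot] at hr
      rw [hr, mul_one] at hx
      obtain ⟨m, -, z, hz, rfl⟩ := ha
      refine Or.inr ⟨x⁻¹ * m, z, hz, ?_⟩
      calc g = x⁻¹ * (x * g * x⁻¹) * x := by group
        _ = _ := by rw [hx]; group
  · rintro (h | ⟨y, z, hz, rfl⟩)
    · obtain ⟨a, ha, r, hr, x, hx⟩ := (dadeSupp_sigma M).ge h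
      exact ⟨a, Or.inl ha, r, hr, x, hx⟩
    · exact ⟨z, Or.inr ⟨1, one_mem _, z, hz, by group⟩, 1, one_mem _, y⁻¹, by group⟩

theorem hatClass_disjoint_tilde (p : KappaPair M K L) (hN : IsCoatom N) :
    Disjoint (hatClass M K) (tildeOf N ((sigmaCore N : Set G) \ {1})) := by
  refine Set.disjoint_left.mpr ?_
  rintro a ⟨y, z, hz, rfl⟩
  exact p.hat_not_mem_tildeOf hG hN hz y

theorem tilde_disjoint (hM : IsCoatom M) (hN : IsCoatom N) (hn : ∀ g : G, N ≠ MulAut.conj g • M) :
    Disjoint (dadeSupp ((sigmaCore M : Set G) \ {1}) (supportR M))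
      (dadeSupp ((sigmaCore N : Set G) \ {1}) (supportR N)) := by
  rw [dadeSupp_sigma, dadeSupp_sigma, Set.disjoint_iff_inter_eq_empty]
  exact tildeOf_disjoint hG hM hN hn

/-- The support of a kappa subgroup is disjoint from `Ñ_σ` for `N` not conjugate to it. -/
theorem kappa_disjoint_sigma (p : KappaPair M K L) (hN : IsCoatom N) (hn : ∀ g : G, N ≠ MulAut.conj g • M) :
    Disjoint (dadeSupp (kappaA0 M K) (supportR M)) (dadeSupp ((sigmaCore N : Set G) \ {1}) (supportR N)) := by
  rw [dadeSupp_kappa hG p, Set.disjoint_union_left]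
  refine ⟨?_, dadeSupp_sigma N ▸ hatClass_disjoint_tilde hG p hN⟩
  rw [dadeSupp_sigma, Set.disjoint_iff_inter_eq_empty]
  exact tildeOf_disjoint hG p.left.hM hN hn

/-- The supports of the two members of a pair meet exactly in the classes of `Ẑ`. -/
theorem kappa_inter_partner (p : KappaPair M K L) :
    dadeSupp (kappaA0 M K) (supportR M) ∩ dadeSupp (kappaA0 L (fixedCore M K)) (supportR L) = hatClass M K := by
  rw [dadeSupp_kappa hG p, dadeSupp_kappa hG (p.symm hG), hatClass_partner p, ← Set.inter_union_distrib_right,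
    tildeOf_disjoint hG p.left.hM p.right.hM, Set.empty_union]
  intro g hg
  exact (IsNode.pair hG (p.left.self_node hG) (p.node hG) p.ne).1 g hg

end CfsgLib.OddOrder.S8
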