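import Cfsg.Agent.Lib.OddOrder.S8.Partner
import Cfsg.Agent.Lib.OddOrder.S8.Pair
import Cfsg.Agent.Lib.OddOrder.S13.Basic
import Cfsg.Agent.Lib.MinSimpleOdd.TypeTwoSets
import Cfsg.Agent.S1376

/-!
Peterfalvi (8.13)-(8.15) for a maximal subgroup with `κ(M) ≠ ∅`, given that the maximal subgroups with
`κ = ∅` are Frobenius groups: every centralizer of an element of `A₀(M)` lies in `M`, so the sets are TI.
-/

set_option autoImplicit false
set_option linter.unusedSectionVars false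

namespace CfsgLib.OddOrder.S8

open Subgroup Cfsg CfsgLib.MinSimpleOdd CfsgLib.OddOrder.S13
open scoped Pointwise

universe u
variable {G : Type u} [Group G] [Finite G] {M N K U L : Subgroup G}

/-- PF (12.x) as a hypothesis: a maximal subgroup with `κ = ∅` is a Frobenius group with kernel `L_F`. -/
def IsKernelFrobenius (G : Type u) [Group G] : Prop :=
  ∀ L : Subgroup G, IsCoatom L → kappa L = ∅ → ∀ x ∈ fittingHallOf L, x ≠ 1 →
    L ⊓ centralizer ({x} : Set G) ≤ fittingHallOf L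

/-- The pair of (13.1) classifies the maximal subgroups. -/
theorem isClassified_of_conj {S T : Subgroup G}
    (h : ∀ H : Subgroup G, IsCoatom H → (kappa H).Nonempty →
      ∃ g : G, H = S.map (MulAut.conj g).toMonoidHom ∨ H = T.map (MulAut.conj g).toMonoidHom) :
    IsClassified S T := fun H hH => (Set.eq_empty_or_nonempty (kappa H)).imp id (h H hH)

variable (hG : IsMinSimpleOddOrder G)
include hG

theorem fittingHallOf_of_kappa_empty (hN : IsCoatom N) (hκ : kappa N = ∅) :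
    fittingHallOf N = sigmaCore N := fittingHallOf_eq hG hN (nilpotent_of_kappa_empty hG hN hκ)

variable (hfr : IsKernelFrobenius G)
include hfr

/-- For `κ(M) ≠ ∅` the centralizers of the non-identity elements of `M_σ` lie in `M`. -/
theorem core_centralizer_le (hM : IsCoatom M) (hκ : (kappa M).Nonempty) {x : G} (hx : x ∈ sigmaCore M) (hx1 : x ≠ 1) :
    centralizer ({x} : Set G) ≤ M := by
  by_contra hxM
  obtain ⟨N, hN⟩ := exists_sigmaOver hG hM hx hx1 hxM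
  rcases Set.eq_empty_or_nonempty (kappa N) with hκN | hκN
  swap
  · exact hκ.ne_empty (Cfsg.Agent.S1376.result hG M hM x hx hx1 hxM N hN.hN hN.le hκN).1
  obtain ⟨⟨y, hy⟩, hy1⟩ := ne_bot_iff_exists_ne_one.mp hN.ne
  have hxN : x ∈ N := hN.le (mem_centralizer_singleton_iff.mpr rfl)
  have hxF : x ∈ fittingHallOf N := hfr N hN.hN hκN y ((fittingHallOf_of_kappa_empty hG hN.hN hκN).ge hy.1)
    (fun e => hy1 (Subtype.ext e))
    ⟨hxN, mem_centralizer_singleton_iff.mpr (mem_centralizer_singleton_iff.mp hy.2).symm⟩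
  have : x ∈ sigmaCore N ⊓ M := ⟨(fittingHallOf_of_kappa_empty hG hN.hN hκN).le hxF, piCoreOf_le _ _ hx⟩
  rw [hN.bot, mem_bot] at this
  exact hx1 this

theorem supportR_bot (hM : IsCoatom M) (hκ : (kappa M).Nonempty) {x : G} (hx : x ∈ sigmaCore M) (hx1 : x ≠ 1) :
    supportR M x = ⊥ := supportR_eq_bot hG hM (core_centralizer_le hG hfr hM hκ hx hx1)

variable (p : KappaPair M K L)
include p

theorem kappaA0_centralizer_le {a : G} (ha : a ∈ kappaA0 M K) : centralizer ({a} : Set G) ≤ M := by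
  rcases ha with ⟨has, ha1⟩ | ha
  · exact core_centralizer_le hG hfr p.left.hM (kappa_nonempty_left hG p) has ha1
  · exact hatConj_centralizer_le hG p ha

theorem kappaA0_supportR {a : G} (ha : a ∈ kappaA0 M K) : supportR M a = ⊥ :=
  supportR_eq_bot hG p.left.hM (kappaA0_centralizer_le hG hfr p ha)

theorem kappaA0_conj_mem {a g : G} (ha : a ∈ kappaA0 M K) (hga : g * a * g⁻¹ ∈ kappaA0 M K) : g ∈ M := by
  obtain ⟨n, hn, hne⟩ := (kappa_dade hG p).fusion a ha g hga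
  have hc : n⁻¹ * g ∈ centralizer ({a} : Set G) := mem_centralizer_singleton_iff.mpr (by
    calc n⁻¹ * g * a = n⁻¹ * (g * a * g⁻¹) * g := by group
      _ = n⁻¹ * (n * a * n⁻¹) * g := by rw [hne]
      _ = a * (n⁻¹ * g) := by group)
  simpa using M.mul_mem hn (kappaA0_centralizer_le hG hfr p ha hc)

/-- `(M_σ − 1) ∪ Ẑ^M` is a TI set with normalizer `M`. -/
theorem kappaA0_TI : IsTISubset (kappaA0 M K) ∧ normalizer (kappaA0 M K) = M := by
  have hle : M ≤ normalizer (kappaA0 M K) := fun m hm n =>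
    ⟨fun h => (kappa_dade hG p).conj_mem m hm n h, fun h => by
      simpa [mul_assoc] using (kappa_dade hG p).conj_mem m⁻¹ (M.inv_mem hm) _ h⟩
  refine ⟨fun g hg a ha hga => absurd (hle (kappaA0_conj_mem hG hfr p ha hga)) hg,
    le_antisymm (fun g hg => ?_) hle⟩
  obtain ⟨⟨s, hs⟩, hs1⟩ := ne_bot_iff_exists_ne_one.mp (sigmaCore_ne_bot hG p.left.hM)
  have hmem : s ∈ kappaA0 M K := Or.inl ⟨hs, fun e => hs1 (Subtype.ext e)⟩
  exact kappaA0_conj_mem hG hfr p hmem ((hg s).mp hmem)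

omit hfr

theorem not_typeI : ¬ IsOfTypeI M := fun h =>
  (kappa_nonempty_left hG p).ne_empty (typeF_kappa_eq_empty hG p.left.hM h.1)

theorem typeCore_eq (h : IsSigmaDecomposition M K U) : typeCore M = sigmaCore M := by
  classical
  by_cases h34 : IsOfTypeIII M ∨ IsOfTypeIV M
  · obtain ⟨-, hU, -⟩ := (Cfsg.Agent.S1382.result hG M p.left.hM K U h).mp h34
    rw [typeCore, if_pos h34, kappa_derived_eq hG p.left.hM h p.left.ne, hU, bot_sup_eq]
  rw [typeCore, if_neg h34]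
  by_contra hne
  by_cases hU : U = ⊥
  · exact h34 ((Cfsg.Agent.S1382.result hG M p.left.hM K U h).mpr ⟨p.left.ne, hU, hne⟩)
  · obtain ⟨-, hs⟩ := decomp_split hG p.left.hM h p.left.ne
    exact hne (fittingHallOf_eq hG p.left.hM (hs.two hU).1)

/-- `A(M)` is `A(M)` of the standard factorisation without the identity. -/
theorem typeA_eq (h : IsSigmaDecomposition M K U) : typeA M = sigmaA M U \ {1} := by
  have hder := kappa_derived_eq hG p.left.hM h p.left.ne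
  ext a
  rw [typeA, if_neg (not_typeI hG p), typeCore_eq hG p h]
  constructor
  · rintro ⟨hD, ha1, y, hy, hy1, hay⟩
    exact ⟨⟨⟨commutator_le_self M hD, y, hy, hy1, hay⟩, hder ▸ hD⟩, ha1⟩
  · rintro ⟨⟨⟨-, y, hy, hy1, hay⟩, hD⟩, ha1⟩
    exact ⟨hder ▸ hD, ha1, y, hy, hy1, hay⟩

/-- The `W`-part of `A₀(M)` is `Ẑ^M`. -/
theorem typeA0_hat (h : IsSigmaDecomposition M K U) :
    {v | ¬ IsOfTypeI M ∧ ∃ W₁ U W₂ : Subgroup G, IsTypePWith M W₁ U W₂ ∧
      ∃ m ∈ M, ∃ w ∈ W₁ ⊔ W₂, w ∉ W₁ ∧ w ∉ W₂ ∧ v = m * w * m⁻¹} = hatConj M K := by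
  have hM := p.left.hM
  have hK1 := p.left.ne
  obtain ⟨U'', hPK, -, -⟩ := exists_typeP hG hM h hK1
  ext v
  constructor
  · rintro ⟨-, W₁, U', W₂, hP, m, hm, w, hw, hw1, hw2, rfl⟩
    obtain ⟨-, hcard, -⟩ := typeP_facts hG hM hP h
    obtain ⟨n, hn, hle⟩ := conj_into_hall hG hM.1 h.hall hP.W₁_compl.2.1
      fun r hr hd => h.hall.2.1 r hr (hcard ▸ hd)
    have hW1 : MulAut.conj n • W₁ = K :=
      eq_of_le_of_card_ge hle (by rw [CfsgLib.card_conj_smul, hcard])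
    have hW2 : MulAut.conj n • W₂ = fixedCore M K := by
      obtain ⟨⟨w₁, hw₁⟩, hw₁1⟩ := ne_bot_iff_exists_ne_one.mp hP.W₁_ne
      have h1 : w₁ ≠ 1 := fun e => hw₁1 (Subtype.ext e)
      have hk : n * w₁ * n⁻¹ ∈ K := hle ⟨w₁, hw₁, rfl⟩
      have h3 := hPK.W₂_centralizer _ hk fun e => h1 (conj_eq_one_iff.mp e)
      refine Eq.trans ?_ h3
      rw [← hP.W₂_centralizer w₁ hw₁ h1, Subgroup.smul_inf, centralizer_zpowers w₁,
        centralizer_zpowers (n * w₁ * n⁻¹), ← centralizer_conj_smul]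
      have hMn : MulAut.conj n • (⁅M, M⁆ : Subgroup G) = ⁅M, M⁆ := by
        have : MulAut.conj n • (⁅M, M⁆ : Subgroup G) = ⁅MulAut.conj n • M, MulAut.conj n • M⁆ :=
          Subgroup.map_commutator _ _ _
        rw [this, conj_smul_eq_of_mem_normalizer (Subgroup.le_normalizer hn)]
      have hz : MulAut.conj n • zpowers w₁ = zpowers (n * w₁ * n⁻¹) := MonoidHom.map_zpowers _ _
      rw [hMn, hz]
    refine ⟨m * n⁻¹, M.mul_mem hm (M.inv_mem hn), n * w * n⁻¹, ⟨?_, ?_⟩, by group⟩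
    · show n * w * n⁻¹ ∈ K ⊔ fixedCore M K
      have hsup : MulAut.conj n • (W₁ ⊔ W₂) = K ⊔ fixedCore M K := by rw [Subgroup.smul_sup, hW1, hW2]
      exact hsup.le ⟨w, hw, rfl⟩
    · rintro (h' | h')
      · obtain ⟨y, hy, hye⟩ := hW1.ge h'
        exact hw1 ((show y = w from (MulAut.conj n).injective hye) ▸ hy)
      · obtain ⟨y, hy, hye⟩ := hW2.ge h'
        exact hw2 ((show y = w from (MulAut.conj n).injective hye) ▸ hy)
  · rintro ⟨m, hm, z, ⟨hz, hzn⟩, rfl⟩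
    exact ⟨not_typeI hG p, K, U'', _, hPK, m, hm, z, hz, fun h => hzn (Or.inl h), fun h => hzn (Or.inr h), rfl⟩

theorem typeA0_eq (h : IsSigmaDecomposition M K U) : typeA0 M = (sigmaA M U \ {1}) ∪ hatConj M K := by
  rw [typeA0, typeA_eq hG p h, typeA0_hat hG p h]

/-- If no element of `M' − M_σ` centralizes a non-identity element of `M_σ`, then `A₀(M)` is `(M_σ − 1) ∪ Ẑ^M`. -/
theorem typeA0_eq_kappaA0 (h : IsSigmaDecomposition M K U)
    (hfree : ∀ a ∈ U ⊔ sigmaCore M, ∀ y ∈ sigmaCore M, y ≠ 1 → a * y = y * a → a ∈ sigmaCore M) :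
    typeA0 M = kappaA0 M K := by
  rw [typeA0_eq hG p h, kappaA0]
  congr 1
  ext a
  constructor
  · rintro ⟨⟨⟨-, y, hy, hy1, hay⟩, hD⟩, ha1⟩
    exact ⟨hfree a hD y hy hy1 hay, ha1⟩
  · rintro ⟨ha, ha1⟩
    exact ⟨⟨⟨piCoreOf_le _ _ ha, a, ha, ha1, rfl⟩, mem_sup_right ha⟩, ha1⟩

/-- The case of an abelian `M_σ` on which `U` acts without fixed points. -/
theorem typeA0_eq_kappaA0_of_fpf (h : IsSigmaDecomposition M K U) (hcomm : IsMulCommutative (sigmaCore M))
    (hfpf : ∀ u ∈ U, u ≠ 1 → sigmaCore M ⊓ centralizer ({u} : Set G) = ⊥) : typeA0 M = kappaA0 M K := by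
  refine typeA0_eq_kappaA0 hG p h fun a ha y hy hy1 hay => ?_
  obtain ⟨s, hs, u, hu, rfl⟩ := CfsgLib.mem_sup_of_le_normalizer
    (h.compl.1.trans (le_normalizer_sigmaCore hG p.left.hM le_rfl)) (sup_comm U (sigmaCore M) ▸ ha)
  have hsy : s * y = y * s := congrArg Subtype.val (hcomm.is_comm.comm ⟨s, hs⟩ ⟨y, hy⟩)
  by_contra hns
  have hu1 : u ≠ 1 := fun e => hns (by rw [e, mul_one]; exact hs)
  have : y ∈ sigmaCore M ⊓ centralizer ({u} : Set G) := by
    refine ⟨hy, mem_centralizer_singleton_iff.mpr ?_⟩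
    refine (mul_left_cancel (a := s) ?_).symm
    rw [← mul_assoc, ← mul_assoc, hsy, hay, mul_assoc]
  rw [hfpf u hu hu1, mem_bot] at this
  exact hy1 this

theorem typeA0_eq_kappaA0_of_bot (h : IsSigmaDecomposition M K U) (hU : U = ⊥) : typeA0 M = kappaA0 M K :=
  typeA0_eq_kappaA0 hG p h fun a ha _ _ _ _ => by rwa [hU, bot_sup_eq] at ha

omit p
include hfr

/-- Peterfalvi (8.15): for `κ(M) ≠ ∅` the set `A₀(M)` is TI with normalizer `M`. -/
theorem typeA0_ti (hM : IsCoatom M) (hκ : (kappa M).Nonempty) :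
    IsTISubset (typeA0 M) ∧ normalizer (typeA0 M) = M := by
  obtain ⟨K, hK⟩ := CfsgLib.exists_isPiHallOf (kappa M) (M := M) (solvable_of_ne_top hG hM.1)
  obtain ⟨r, hr⟩ := hκ
  have hK1 : K ≠ ⊥ := fun e => hK.2.2 r hr.1 hr (by rw [e, relIndex_bot_left]; exact hr.2.1)
  obtain ⟨L, p⟩ := (kappaData_of_hall hG hM hK hK1).exists_pair hG
  obtain ⟨U, hKU⟩ := exists_sigmaDecomposition hG hM (kappaHall_cyclic hG hM hK) hK
  by_cases hU : U = ⊥
  · rw [typeA0_eq_kappaA0_of_bot hG p hKU hU]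
    exact kappaA0_TI hG hfr p
  · exact (typeII_sets hG hM ((Cfsg.Agent.S1381.result hG M hM K U hKU).mpr ⟨hK1, hU⟩)).1

theorem typeA0_centralizer_le (hM : IsCoatom M) (hκ : (kappa M).Nonempty) {x : G} (hx : x ∈ typeA0 M) (hx1 : x ≠ 1) :
    centralizer ({x} : Set G) ≤ M := fun g hg => by
  obtain ⟨hti, hn⟩ := typeA0_ti hG hfr hM hκ
  rw [← hn]
  by_contra hgn
  exact hx1 (hti g hgn x hx (by rwa [mem_centralizer_singleton_iff.mp hg, mul_inv_cancel_right]))

omit hG hfr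

/-- PF (13.2)(e) for a pair, without further hypotheses. -/
theorem ftPair_typeA0_TI {S T W₁ W₂ U V : Subgroup G} (h : FTPair S T W₁ W₂ U V) (imp : FTImports G) :
    IsTISubset (typeA0 S) ∧ normalizer (typeA0 S) = S := by
  obtain ⟨K, hK⟩ := CfsgLib.exists_isPiHallOf (kappa S) (M := S) (solvable_of_ne_top h.hG h.hS.1)
  obtain ⟨U₀, hKU⟩ := exists_sigmaDecomposition h.hG h.hS (kappaHall_cyclic h.hG h.hS hK) hK
  obtain ⟨hK1, -, -⟩ := typeP_facts h.hG h.hS h.hSP hKU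
  obtain ⟨r, hr, hrd⟩ := Nat.exists_prime_and_dvd fun e => hK1 (card_eq_one.mp e)
  exact typeA0_ti h.hG imp.frobI h.hS ⟨r, hK.2.1 r hr hrd⟩

/-- `A(S)` is the set `X_S` of PF (13.1): the elements of `S' − 1` centralising a non-identity element of `S_σ`. -/
theorem mem_typeA_iff {M K U L : Subgroup G} (hG : IsMinSimpleOddOrder G) (p : KappaPair M K L)
    (h : IsSigmaDecomposition M K U) {a : G} :
    a ∈ typeA M ↔ a ∈ (⁅M, M⁆ : Subgroup G) ∧ a ≠ 1 ∧ ∃ y ∈ sigmaCore M, y ≠ 1 ∧ a * y = y * a := by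
  rw [typeA, if_neg (not_typeI hG p), typeCore_eq hG p h]
  exact Iff.rfl

/-- For a pair in which no element of `U − 1` has a fixed point on `P`, `A₀(S)` is `(S_σ − 1) ∪ Ẑ^S`. -/
theorem ftPair_typeA0_eq {S T W₁ W₂ U V : Subgroup G} (h : FTPair S T W₁ W₂ U V) (imp : FTImports G)
    (p : KappaPair S W₁ T) (hfree : ∀ u ∈ U, u ≠ 1 → fittingHallOf S ⊓ centralizer ({u} : Set G) = ⊥) :
    typeA0 S = kappaA0 S W₁ := by
  obtain ⟨U₀, hKU⟩ := exists_sigmaDecomposition h.hG h.hS p.cycK p.left.hall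
  by_cases hU : U₀ = ⊥
  · exact typeA0_eq_kappaA0_of_bot h.hG p hKU hU
  obtain ⟨hd, hH, -, -⟩ := S9.typeData_two h.hG h.hS hKU p.left.ne hU
  refine typeA0_eq_kappaA0_of_fpf h.hG p hKU (hH ▸ h.P_comm imp) fun u hu hu1 => ?_
  obtain ⟨e, he, heq⟩ := compl_conj h.hG h.hS h.hSP.U_compl hd.compl_U
  have heS : e ∈ S := commutator_le_self S he
  refine (eq_bot_iff_forall _).mpr fun y hy => ?_
  rw [← hH] at hy
  have h1 : e * y * e⁻¹ ∈ fittingHallOf S ⊓ centralizer ({e * u * e⁻¹} : Set G) := by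
    refine ⟨(mem_normalizer_iff.mp (le_normalizer_fittingHallOf S heS) y).mp hy.1,
      mem_centralizer_singleton_iff.mpr ?_⟩
    calc e * y * e⁻¹ * (e * u * e⁻¹) = e * (y * u) * e⁻¹ := by group
      _ = e * (u * y) * e⁻¹ := by rw [mem_centralizer_singleton_iff.mp hy.2]
      _ = e * u * e⁻¹ * (e * y * e⁻¹) := by group
  rw [hfree (e * u * e⁻¹) (heq.le ⟨u, hu, rfl⟩) (fun e1 => hu1 (conj_eq_one_iff.mp e1)), mem_bot] at h1
  exact conj_eq_one_iff.mp h1

end CfsgLib.OddOrder.S8
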