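import Cfsg.Agent.Lib.MinSimpleOdd.TypeP
import Cfsg.Agent.Lib.MinSimpleOdd.KappaSets
import Cfsg.Agent.Lib.MinSimpleOdd.SigmaTilde
import Cfsg.Agent.Lib.MinSimpleOdd.SigmaOverPair
import Cfsg.Prelude.Def_OddOrderChar

/-!
Peterfalvi (8.15) for a maximal subgroup with `κ(M) ≠ ∅`: the Dade set-up on the non-identity elements of
`M_σ` together with the conjugates of `W − (W₁ ∪ W₂)`.
-/

set_option autoImplicit false
set_option linter.unusedSectionVars false

namespace CfsgLib.OddOrder.S8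

open Subgroup Cfsg CfsgLib.MinSimpleOdd
open scoped Pointwise

universe u
variable {G : Type u} [Group G] [Finite G] {M K U L : Subgroup G}

/-- The `M`-conjugates of `Z − (K ∪ K*)`. -/
def hatConj (M K : Subgroup G) : Set G :=
  {a | ∃ m ∈ M, ∃ z ∈ (↑(K ⊔ fixedCore M K) : Set G) \ ((K : Set G) ∪ (fixedCore M K : Set G)),
    a = m * z * m⁻¹}

/-- The support `(M_σ − 1) ∪ Ẑ^M`. -/
def kappaA0 (M K : Subgroup G) : Set G := ((sigmaCore M : Set G) \ {1}) ∪ hatConj M K

variable (hG : IsMinSimpleOddOrder G) (p : KappaPair M K L)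

include hG p

/-- A conjugate of `z ∈ Ẑ` lying in `Ẑ^M` comes from `M`. -/
theorem hatConj_fusion {a g : G} (ha : a ∈ hatConj M K) (hga : g * a * g⁻¹ ∈ hatConj M K) : g ∈ M := by
  obtain ⟨m, hm, z, hz, rfl⟩ := ha
  obtain ⟨m', hm', z', hz', e⟩ := hga
  have e' : m'⁻¹ * g * m * z * (m'⁻¹ * g * m)⁻¹ = z' := by
    calc m'⁻¹ * g * m * z * (m'⁻¹ * g * m)⁻¹ = m'⁻¹ * (g * (m * z * m⁻¹) * g⁻¹) * m' := by group
      _ = z' := by rw [e]; group
  have hgM' : m'⁻¹ * g * m ∈ M := p.left.sup_le_M hG (p.hat_conj hG hz (e'.symm ▸ hz'.1))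
  have := M.mul_mem (M.mul_mem hm' hgM') (M.inv_mem hm)
  rwa [show m' * (m'⁻¹ * g * m) * m⁻¹ = g by group] at this

theorem hatConj_centralizer_le {a : G} (ha : a ∈ hatConj M K) :
    Subgroup.centralizer ({a} : Set G) ≤ M := fun c hc => by
  refine hatConj_fusion hG p ha (g := c) ?_
  have h : c * a = a * c := Subgroup.mem_centralizer_singleton_iff.mp hc
  rw [h, mul_inv_cancel_right]
  exact ha

theorem hatConj_subset {a : G} (ha : a ∈ hatConj M K) : a ∈ M := by
  obtain ⟨m, hm, z, hz, rfl⟩ := ha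
  exact M.mul_mem (M.mul_mem hm (p.left.sup_le_M hG hz.1)) (M.inv_mem hm)

/-- An element of `Ẑ^M` is not a `σ(M)`-element. -/
theorem hatConj_not_sigma {a : G} (ha : a ∈ hatConj M K) :
    ¬ ∀ q : ℕ, q.Prime → q ∣ orderOf a → q ∈ sigma M := by
  intro hσ
  have hM := p.left.hM
  obtain ⟨m, hm, z, hz, rfl⟩ := ha
  have hzs : z ∈ sigmaCore M := mem_sigmaCore_of_order hG hM (p.left.sup_le_M hG hz.1)
    fun q hq hd => hσ q hq (by rwa [CfsgLib.MinSimpleOdd.orderOf_conj])
  obtain ⟨k, hk, c, hc, rfl⟩ := (p.left.compl hG).2.2.2 z hz.1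
  refine hz.2 (Or.inr ?_)
  have hkσ : k ∈ sigmaCore M := by
    have := (sigmaCore M).mul_mem hzs ((sigmaCore M).inv_mem hc.1)
    rwa [mul_inv_cancel_right] at this
  have hk1 : k = 1 := Subgroup.mem_bot.mp (decomp_inf hG hM p.left.hall ▸ (⟨hk, hkσ⟩ : k ∈ K ⊓ sigmaCore M))
  simpa [hk1] using hc

theorem kappa_nonempty_left : (kappa M).Nonempty := by
  obtain ⟨r, hr, hrd⟩ := Nat.exists_prime_and_dvd fun e => p.left.ne (Subgroup.card_eq_one.mp e)
  exact ⟨r, p.left.hall.2.1 r hr hrd⟩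

/-- No prime of `R(a)` divides the order of `M`. -/
theorem supportR_coprime {a : G} (ha : a ∈ kappaA0 M K) :
    (Nat.card (supportR M a)).Coprime (Nat.card M) := by
  have hM := p.left.hM
  rcases ha with ⟨has, ha1⟩ | ha
  swap
  · rw [supportR_eq_bot hG hM (hatConj_centralizer_le hG p ha), Subgroup.card_bot]
    exact Nat.coprime_one_left _
  rcases supportR_cases hG hM has ha1 with ⟨-, h⟩ | ⟨N, hN, h⟩
  · rw [h, Subgroup.card_bot]
    exact Nat.coprime_one_left _
  refine Nat.coprime_of_dvd fun r hr h1 h2 => ?_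
  have := Fact.mk hr
  rw [h] at h1
  have hrN : r ∈ sigma N :=
    (sigmaCore_hall hG hN.hN).1.2.1 r hr (h1.trans (Subgroup.card_dvd_of_le inf_le_left))
  exact (kappa_nonempty_left hG p).ne_empty (hN.kappa_eq_empty hG hM has ha1 hrN h2)

/-- Peterfalvi (8.15) for `κ(M) ≠ ∅`. -/
theorem kappa_dade : DadeHypothesis (kappaA0 M K) M (supportR M) := by
  have hM := p.left.hM
  have hsM : sigmaCore M ≤ M := piCoreOf_le _ _
  have hsub : kappaA0 M K ⊆ (M : Set G) := by
    rintro a (⟨ha, -⟩ | ha)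
    · exact hsM ha
    · exact hatConj_subset hG p ha
  constructor
  · rintro (⟨-, h⟩ | h)
    · exact h rfl
    · exact hatConj_not_sigma hG p h fun q hq hd => absurd (Nat.dvd_one.mp (orderOf_one (G := G) ▸ hd)) hq.ne_one
  · exact hsub
  · rintro x hx a (⟨ha, ha1⟩ | ⟨m, hm, z, hz, rfl⟩)
    · exact Or.inl ⟨(Subgroup.mem_normalizer_iff.mp (le_normalizer_sigmaCore hG hM le_rfl hx) a).mp ha,
        fun e => ha1 (conj_eq_one_iff.mp e)⟩
    · exact Or.inr ⟨x * m, M.mul_mem hx hm, z, hz, by group⟩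
  · intro a ha g hga
    rcases ha with ⟨has, ha1⟩ | ha
    · have hgs : g * a * g⁻¹ ∈ sigmaCore M := by
        rcases hga with ⟨h, -⟩ | h
        · exact h
        · exact absurd (fun q hq hd => order_sigma hG hM has q hq
            (by rwa [CfsgLib.MinSimpleOdd.orderOf_conj] at hd)) (hatConj_not_sigma hG p h)
      have hag : a ∈ MulAut.conj g⁻¹ • M := by
        rw [CfsgLib.mem_conj_smul_iff]
        simpa using hsM hgs
      obtain ⟨c, hc, hgc, -, -⟩ := conj_of_mem hG hM has ha1 hag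
      refine ⟨g * c, ?_, ?_⟩
      · rw [← normalizer_coatom hG hM]
        refine mem_normalizer_of_conj_smul ?_
        rw [← CfsgLib.conj_smul_mul, ← hgc, CfsgLib.conj_smul_mul, mul_inv_cancel, map_one, one_smul]
      · have hca : c * a = a * c := Subgroup.mem_centralizer_singleton_iff.mp hc
        calc g * c * a * (g * c)⁻¹ = g * (c * a) * c⁻¹ * g⁻¹ := by group
          _ = g * a * g⁻¹ := by rw [hca]; group
    · have hga' : g * a * g⁻¹ ∈ hatConj M K := by
        rcases hga with ⟨h, -⟩ | h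
        · exact absurd (fun q hq hd => order_sigma hG hM h q hq
            (by rwa [CfsgLib.MinSimpleOdd.orderOf_conj])) (hatConj_not_sigma hG p ha)
        · exact h
      exact ⟨g, hatConj_fusion hG p ha hga', rfl⟩
  · rintro a (⟨has, ha1⟩ | ha)
    · exact supportR_le_centralizer hG hM has ha1
    · rw [supportR_eq_bot hG hM (hatConj_centralizer_le hG p ha)]
      exact bot_le
  · rintro a (⟨has, ha1⟩ | ha) c hc v hv
    · exact (Subgroup.mem_normalizer_iff.mp ((centralizer_compl hG hM has ha1).2 hc) v).mp hv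
    · rw [supportR_eq_bot hG hM (hatConj_centralizer_le hG p ha), Subgroup.mem_bot] at hv ⊢
      rw [hv, mul_one, mul_inv_cancel]
  · rintro a (⟨has, ha1⟩ | ha)
    · rw [inf_comm]; exact (centralizer_compl hG hM has ha1).1.2.2.1
    · rw [supportR_eq_bot hG hM (hatConj_centralizer_le hG p ha), bot_inf_eq]
  · rintro a (⟨has, ha1⟩ | ha)
    · obtain ⟨h1, h2, -, h3⟩ := (centralizer_compl hG hM has ha1).1
      refine le_antisymm (sup_le h2 h1) fun n hn => ?_
      obtain ⟨e, he, b, hb, rfl⟩ := h3 n hn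
      exact Subgroup.mul_mem _ (Subgroup.mem_sup_right he) (Subgroup.mem_sup_left hb)
    · rw [supportR_eq_bot hG hM (hatConj_centralizer_le hG p ha), bot_sup_eq,
        inf_eq_right.mpr (hatConj_centralizer_le hG p ha)]
  · intro a ha b _
    exact (supportR_coprime hG p ha).coprime_dvd_right (Subgroup.card_dvd_of_le inf_le_left)

end CfsgLib.OddOrder.S8
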